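import Groth.Agent.NodeCplLib.Seq
import Groth.Agent.CohenLib.PSLocal
import Groth.Agent.AdicRingLib.Completion
import Mathlib.RingTheory.AdicCompletion.LocalRing
import Mathlib.RingTheory.AdicCompletion.Noetherian

/-!
# The completion of a nodal algebra is a quotient of a node over the completed base
-/

set_option autoImplicit false
set_option backward.isDefEq.respectTransparency false
set_option backward.isDefEq.respectTransparency.types false

universe u

open IsLocalRing

namespace NodeCplLib

/-- Limits in a complete Noetherian local ring stay in a coset of an ideal. -/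
theorem exists_limit {R : Type u} [CommRing R] [IsLocalRing R] [IsNoetherianRing R]
    [IsAdicComplete (maximalIdeal R) R] (a : Ideal R) (ha : a ≤ maximalIdeal R) (f : ℕ → R)
    (hf : ∀ n, f (n + 1) - f n ∈ a ^ (n + 1)) :
    ∃ L : R, (∀ n, L - f n ∈ maximalIdeal R ^ n) ∧ L - f 0 ∈ a := by
  have hc : ∀ {m n : ℕ}, m ≤ n → f m ≡ f n [SMOD (maximalIdeal R ^ m • ⊤ : Submodule R R)] := by
    intro m n hmn
    rw [SModEq.sub_mem, smul_eq_mul, Ideal.mul_top]
    induction n, hmn using Nat.le_induction with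
    | base => simp
    | succ n hn ih =>
      rw [show f m - f (n + 1) = (f m - f n) - (f (n + 1) - f n) by ring]
      exact sub_mem ih (Ideal.pow_le_pow_right (Nat.le_succ_of_le hn) (Ideal.pow_right_mono ha _ (hf n)))
  obtain ⟨L, hL⟩ := IsPrecomplete.prec ‹IsAdicComplete (maximalIdeal R) R›.toIsPrecomplete hc
  have hL' : ∀ n, L - f n ∈ maximalIdeal R ^ n := fun n => by
    have h := SModEq.sub_mem.1 (hL n)
    rw [smul_eq_mul, Ideal.mul_top] at h
    rw [← neg_sub]; exact neg_mem h
  refine ⟨L, hL', ?_⟩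
  have h0 : ∀ n, f n - f 0 ∈ a := fun n => by
    induction n with
    | zero => simp
    | succ n ih =>
      rw [show f (n + 1) - f 0 = (f (n + 1) - f n) + (f n - f 0) by ring]
      exact add_mem (Ideal.pow_le_self n.succ_ne_zero (hf n)) ih
  rw [← Ideal.Quotient.eq_zero_iff_mem]
  refine IsHausdorff.haus (I := maximalIdeal R) inferInstance _ fun n => ?_
  rw [SModEq.zero, show Ideal.Quotient.mk a (L - f 0) = (L - f n) • (1 : R ⧸ a) by
    rw [Algebra.smul_def, mul_one, Ideal.Quotient.algebraMap_eq]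
    exact Ideal.Quotient.eq.2 (by simpa using h0 n)]
  exact Submodule.smul_mem_smul (hL' n) Submodule.mem_top

variable (A B : Type u) [CommRing A] [IsLocalRing A] [IsNoetherianRing A]
    [CommRing B] [IsLocalRing B] [IsNoetherianRing B] [Algebra A B] [IsLocalHom (algebraMap A B)]

theorem exists_surjective_node (hres : Function.Bijective (ResidueField.map (algebraMap A B))) (u v : B)
    (hu : u ∈ maximalIdeal B) (hv : v ∈ maximalIdeal B)
    (huv : u * v ∈ (maximalIdeal A).map (algebraMap A B))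
    (hgen : maximalIdeal B = Ideal.span {u, v} ⊔ (maximalIdeal A).map (algebraMap A B)) :
    ∃ (α : AdicCompletion (maximalIdeal A) A)
      (_ : α ∈ (maximalIdeal A).map (algebraMap A (AdicCompletion (maximalIdeal A) A)))
      (ψ : (MvPowerSeries (Fin 2) (AdicCompletion (maximalIdeal A) A) ⧸ Ideal.span
          {(MvPowerSeries.X 0 * MvPowerSeries.X 1 - MvPowerSeries.C α :
              MvPowerSeries (Fin 2) (AdicCompletion (maximalIdeal A) A))}) →ₐ[A]
        AdicCompletion (maximalIdeal B) B),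
      Function.Surjective ψ ∧
        ψ (Ideal.Quotient.mk _ (MvPowerSeries.X 0)) -
            algebraMap B (AdicCompletion (maximalIdeal B) B) u ∈
          (maximalIdeal A).map (algebraMap A (AdicCompletion (maximalIdeal B) B)) ∧
        ψ (Ideal.Quotient.mk _ (MvPowerSeries.X 1)) -
            algebraMap B (AdicCompletion (maximalIdeal B) B) v ∈
          (maximalIdeal A).map (algebraMap A (AdicCompletion (maximalIdeal B) B)) := by
  obtain ⟨us, vs, ε, hus0, hvs0, hseq⟩ := exists_node_seq hres hu hv huv hgen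
  let Ah := AdicCompletion (maximalIdeal A) A
  let Bh := AdicCompletion (maximalIdeal B) B
  haveI : IsNoetherianRing Ah := AdicRingLib.isNoetherianRing_adicCompletion _
  haveI : IsNoetherianRing Bh := AdicRingLib.isNoetherianRing_adicCompletion _
  let φ := algebraMap A Bh
  have hφ : ∀ a, φ a = algebraMap B Bh (algebraMap A B a) := fun a => IsScalarTower.algebraMap_apply A B Bh a
  have hmB : maximalIdeal Bh = (maximalIdeal B).map (algebraMap B Bh) := AdicCompletion.maximalIdeal_eq_map
  have hmA : maximalIdeal Ah = (maximalIdeal A).map (algebraMap A Ah) := AdicCompletion.maximalIdeal_eq_map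
  let M : Ideal Bh := (maximalIdeal A).map φ
  have hM : M = ((maximalIdeal A).map (algebraMap A B)).map (algebraMap B Bh) := by
    rw [Ideal.map_map]; rfl
  have hMle : M ≤ maximalIdeal Bh := by
    rw [hM, hmB]; exact Ideal.map_mono (hgen ▸ le_sup_right)
  have hpow : ∀ k : ℕ, ∀ x ∈ (maximalIdeal A ^ k).map (algebraMap A B), algebraMap B Bh x ∈ M ^ k := by
    intro k x hx
    rw [hM, ← Ideal.map_pow, ← Ideal.map_pow]
    exact Ideal.mem_map_of_mem _ hx
  let g : Ah →+* Bh := CompleteLib.completionLift (maximalIdeal A) (maximalIdeal Bh) φ hMle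
  have hg : ∀ a, g (algebraMap A Ah a) = φ a := CompleteLib.completionLift_algebraMap _ _ _ _
  obtain ⟨u', hu', hu'0⟩ := exists_limit M hMle (fun n => algebraMap B Bh (us n)) fun n => by
    rw [← map_sub]; exact hpow _ _ (hseq n).2.2.2.1
  obtain ⟨v', hv', hv'0⟩ := exists_limit M hMle (fun n => algebraMap B Bh (vs n)) fun n => by
    rw [← map_sub]; exact hpow _ _ (hseq n).2.2.2.2.1
  obtain ⟨α, hα, hα0⟩ := exists_limit (maximalIdeal Ah) le_rfl (fun n => algebraMap A Ah (ε n)) fun n => by
    rw [← map_sub, hmA, ← Ideal.map_pow]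
    exact Ideal.mem_map_of_mem _ (hseq n).2.2.2.2.2.1
  rw [hus0] at hu'0
  rw [hvs0] at hv'0
  have hαm : α ∈ maximalIdeal Ah := (Submodule.sub_mem_iff_left _
    (hmA ▸ Ideal.mem_map_of_mem _ (hseq 0).2.2.1)).1 hα0
  have hgm : (maximalIdeal Ah).map g ≤ maximalIdeal Bh := by
    rw [hmA, Ideal.map_map, show g.comp (algebraMap A Ah) = φ from RingHom.ext hg]
    exact hMle
  have hrel : u' * v' = g α := by
    refine sub_eq_zero.1 (IsHausdorff.haus (I := maximalIdeal Bh) inferInstance _ fun n => ?_)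
    rw [SModEq.zero, smul_eq_mul, Ideal.mul_top,
      show u' * v' - g α = (u' - algebraMap B Bh (us n)) * v' +
        algebraMap B Bh (us n) * (v' - algebraMap B Bh (vs n)) +
        algebraMap B Bh (us n * vs n - algebraMap A B (ε n)) - g (α - algebraMap A Ah (ε n)) by
      rw [map_sub g, hg, map_sub, map_mul, ← hφ]; ring]
    refine sub_mem (add_mem (add_mem (Ideal.mul_mem_right _ _ (hu' n)) (Ideal.mul_mem_left _ _ (hv' n))) ?_) ?_
    · exact Ideal.pow_le_pow_right n.le_succ (Ideal.pow_right_mono hMle _ (hpow _ _ (hseq n).2.2.2.2.2.2))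
    · have h := Ideal.mem_map_of_mem g (hα n)
      rw [Ideal.map_pow] at h
      exact Ideal.pow_right_mono hgm n h
  have hu'm : u' ∈ maximalIdeal Bh := (Submodule.sub_mem_iff_left _
    (hmB ▸ Ideal.mem_map_of_mem _ hu)).1 (hMle hu'0)
  have hv'm : v' ∈ maximalIdeal Bh := (Submodule.sub_mem_iff_left _
    (hmB ▸ Ideal.mem_map_of_mem _ hv)).1 (hMle hv'0)
  have hxy : ∀ i, ![u', v'] i ∈ maximalIdeal Bh := by
    intro i; fin_cases i
    · exact hu'm
    · exact hv'm
  let Φ := CohenLib.psHom (maximalIdeal Bh) g ![u', v'] hxy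
  have hX : ∀ i, Φ (MvPowerSeries.X i) = ![u', v'] i := CohenLib.psHom_X _ _ _ _
  have hC : ∀ c, Φ (MvPowerSeries.C c) = g c := CohenLib.psHom_C _ _ _ _
  have hkill : ∀ x ∈ Ideal.span {(MvPowerSeries.X 0 * MvPowerSeries.X 1 - MvPowerSeries.C α :
      MvPowerSeries (Fin 2) Ah)}, Φ x = 0 := by
    intro x hx
    obtain ⟨t, rfl⟩ := Ideal.mem_span_singleton.1 hx
    rw [map_mul, map_sub, map_mul, hX, hX, hC]
    simp [hrel]
  let ψ : (MvPowerSeries (Fin 2) Ah ⧸ Ideal.span
      {(MvPowerSeries.X 0 * MvPowerSeries.X 1 - MvPowerSeries.C α : MvPowerSeries (Fin 2) Ah)}) →ₐ[A] Bh :=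
    { Ideal.Quotient.lift _ Φ hkill with
      commutes' := fun a => by
        show Φ (algebraMap A (MvPowerSeries (Fin 2) Ah) a) = φ a
        rw [MvPowerSeries.algebraMap_apply]
        exact (hC _).trans (hg a) }
  have hψ : ∀ x, ψ (Ideal.Quotient.mk _ x) = Φ x := fun x => rfl
  refine ⟨α, hmA ▸ hαm, ψ, ?_, ?_, ?_⟩
  · haveI := CohenLib.isAdicComplete_sup_varsIdeal (n := 2) Ah (maximalIdeal Ah)
    have hI : ((maximalIdeal Ah).map MvPowerSeries.C ⊔ CohenLib.varsIdeal Ah 2).map Φ = maximalIdeal Bh := by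
      refine le_antisymm ?_ ?_
      · rw [Ideal.map_sup, sup_le_iff, Ideal.map_map, show Φ.comp MvPowerSeries.C = g from RingHom.ext hC]
        refine ⟨hgm, ?_⟩
        rw [CohenLib.varsIdeal, Ideal.map_span, Ideal.span_le]
        rintro _ ⟨_, ⟨i, rfl⟩, rfl⟩
        rw [hX]; exact hxy i
      · set T := Ideal.map Φ ((maximalIdeal Ah).map MvPowerSeries.C ⊔ CohenLib.varsIdeal Ah 2)
        have hMT : M ≤ T := by
          rw [show M = ((maximalIdeal A).map (algebraMap A Ah)).map g by
            rw [Ideal.map_map, show g.comp (algebraMap A Ah) = φ from RingHom.ext hg], ← hmA,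
            ← show Φ.comp MvPowerSeries.C = g from RingHom.ext hC, ← Ideal.map_map]
          exact Ideal.map_mono le_sup_left
        have hXT : ∀ i, ![u', v'] i ∈ T := fun i => hX i ▸
          Ideal.mem_map_of_mem _ (Ideal.mem_sup_right (Ideal.subset_span ⟨i, rfl⟩))
        rw [hmB, show (maximalIdeal B).map (algebraMap B Bh) = _ from congrArg (Ideal.map (algebraMap B Bh)) hgen,
          Ideal.map_sup, sup_le_iff, ← hM]
        refine ⟨?_, hMT⟩
        rw [Ideal.map_span, Ideal.span_le]
        rintro _ ⟨x, hx, rfl⟩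
        rcases hx with rfl | rfl
        · rw [← sub_sub_cancel u' (algebraMap B Bh x)]
          exact sub_mem (hXT 0) (hMT hu'0)
        · rw [← sub_sub_cancel v' (algebraMap B Bh x)]
          exact sub_mem (hXT 1) (hMT hv'0)
    have hs : Function.Surjective Φ := CohenLib.surjective_of_complete (maximalIdeal Bh)
      ((maximalIdeal Ah).map MvPowerSeries.C ⊔ CohenLib.varsIdeal Ah 2) Φ hI fun r => by
      obtain ⟨z, hz⟩ := (AdicCompletion.residueField_map_bijective B).2 (residue Bh r)
      obtain ⟨w, hw⟩ := hres.2 z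
      obtain ⟨a, rfl⟩ := residue_surjective w
      refine ⟨MvPowerSeries.C (algebraMap A Ah a), ?_⟩
      rw [hC, hg, ← residue_eq_zero_iff, map_sub, sub_eq_zero, ← hz, ← hw, hφ]
      simp [ResidueField.map_residue]
      rfl
    intro r
    obtain ⟨p, hp⟩ := hs r
    exact ⟨Ideal.Quotient.mk _ p, hp⟩
  · rw [hψ, hX]; exact hu'0
  · rw [hψ, hX]; exact hv'0

end NodeCplLib
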