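import Groth.Agent.NodeCplLib.Surj
import Mathlib.RingTheory.Flat.EquationalCriterion
import Mathlib.RingTheory.AdicCompletion.AsTensorProduct

/-!
# A flat nodal algebra is a node after completion
-/

set_option autoImplicit false
set_option backward.isDefEq.respectTransparency false
set_option backward.isDefEq.respectTransparency.types false

universe u

open IsLocalRing

namespace NodeCplLib

/-- A surjection onto a flat module algebra meets `m S` in `m K`. -/
theorem ker_le_map_mul_ker {A S R : Type u} [CommRing A] [IsNoetherianRing A] [CommRing S] [CommRing R]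
    [Algebra A S] [Algebra A R] [Module.Flat A R] (ψ : S →ₐ[A] R) (hψ : Function.Surjective ψ)
    (m : Ideal A) (hK : RingHom.ker ψ ≤ m.map (algebraMap A S)) :
    RingHom.ker ψ ≤ m.map (algebraMap A S) * RingHom.ker ψ := by
  obtain ⟨k, a, ha⟩ := Submodule.fg_iff_exists_fin_generating_family.1 m.fg_of_isNoetherianRing
  intro x hx
  have h1 := hK hx
  rw [← ha, Ideal.map_span, ← Set.range_comp, Ideal.mem_span_range_iff_exists_fun] at h1
  obtain ⟨c, rfl⟩ := h1
  have h2 : ∑ i, a i • ψ (c i) = 0 := by
    rw [← (RingHom.mem_ker).1 hx, map_sum]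
    refine Finset.sum_congr rfl fun i _ => ?_
    rw [Function.comp_apply, map_mul, AlgHom.commutes, Algebra.smul_def, mul_comm]
  obtain ⟨j, e, y, hy, he⟩ := Module.Flat.isTrivialRelation_of_sum_smul_eq_zero h2
  choose z hz using fun t => hψ (y t)
  have hk : ∀ i, c i - ∑ t, e i t • z t ∈ RingHom.ker ψ := fun i => by
    rw [RingHom.mem_ker, map_sub, map_sum, sub_eq_zero]
    exact (hy i).trans (Finset.sum_congr rfl fun t _ => by rw [map_smul, hz])
  have h3 : ∑ i, (∑ t, e i t • z t) * algebraMap A S (a i) = 0 := by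
    simp_rw [Finset.sum_mul, Algebra.smul_def]
    rw [Finset.sum_comm]
    refine Finset.sum_eq_zero fun t _ => ?_
    rw [← zero_mul (z t), ← map_zero (algebraMap A S), ← he t, map_sum, Finset.sum_mul]
    exact Finset.sum_congr rfl fun i _ => by rw [map_mul]; ring
  rw [show ∑ i, c i * (algebraMap A S ∘ a) i = ∑ i, algebraMap A S (a i) * (c i - ∑ t, e i t • z t) by
    simp only [mul_sub, Finset.sum_sub_distrib]
    rw [show ∑ i, algebraMap A S (a i) * ∑ t, e i t • z t = 0 by
      rw [← h3]; exact Finset.sum_congr rfl fun i _ => mul_comm _ _, sub_zero]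
    exact Finset.sum_congr rfl fun i _ => mul_comm _ _]
  exact Ideal.sum_mem _ fun i _ => Ideal.mul_mem_mul
    (Ideal.mem_map_of_mem _ (ha ▸ Submodule.subset_span ⟨i, rfl⟩)) (hk i)

/-- A power series with coefficients in a finitely generated ideal lies in the extended ideal. -/
theorem mem_map_C_of_coeff_mem {σ : Type*} {R : Type u} [CommRing R] {J : Ideal R} (hJ : J.FG)
    (f : MvPowerSeries σ R) (h : ∀ e, MvPowerSeries.coeff e f ∈ J) : f ∈ J.map MvPowerSeries.C := by
  obtain ⟨k, a, ha⟩ := Submodule.fg_iff_exists_fin_generating_family.1 hJ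
  choose c hc using fun e => Ideal.mem_span_range_iff_exists_fun.1 (show MvPowerSeries.coeff e f ∈
    Ideal.span (Set.range a) from (by rw [Ideal.span, ha]; exact h e))
  let G : Fin k → MvPowerSeries σ R := fun i e => c e i
  rw [show f = ∑ i, G i * MvPowerSeries.C (a i) from MvPowerSeries.ext fun e => by
    rw [map_sum, ← hc e]
    refine Finset.sum_congr rfl fun i _ => ?_
    rw [mul_comm (G i), MvPowerSeries.coeff_C_mul, mul_comm]
    rfl]
  exact Ideal.sum_mem _ fun i _ => Ideal.mul_mem_left _ _
    (Ideal.mem_map_of_mem _ (ha ▸ Submodule.subset_span ⟨i, rfl⟩))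

end NodeCplLib
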