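import Groth.Agent.NodeCplLib.Equiv
import Mathlib.RingTheory.Nakayama
import Mathlib.RingTheory.Flat.Stability
import Mathlib.RingTheory.Ideal.Quotient.Noetherian

/-!
# Flat nodal algebras: the completion is a node
-/

set_option autoImplicit false
set_option backward.isDefEq.respectTransparency false
set_option backward.isDefEq.respectTransparency.types false
set_option maxHeartbeats 1000000

universe u

open IsLocalRing

namespace NodeCplLib

variable (A B : Type u) [CommRing A] [IsLocalRing A] [IsNoetherianRing A]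
    [CommRing B] [IsLocalRing B] [IsNoetherianRing B] [Algebra A B] [IsLocalHom (algebraMap A B)]
    [Module.Flat A B]

local notation "Ah" => AdicCompletion (maximalIdeal A) A
local notation "Bh" => AdicCompletion (maximalIdeal B) B
local notation "PP" => MvPowerSeries (Fin 2) (AdicCompletion (maximalIdeal A) A)
local notation "NN" => MvPowerSeries (Fin 2) (ResidueField A) ⧸
  Ideal.span {(MvPowerSeries.X 0 * MvPowerSeries.X 1 : MvPowerSeries (Fin 2) (ResidueField A))}

/-- A surjection from a node onto the completion is injective when the closed fibre is a node. -/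
theorem injective_of_surjective_node
    (e : AdicCompletion ((maximalIdeal B).map (Ideal.Quotient.mk ((maximalIdeal A).map (algebraMap A B))))
          (B ⧸ (maximalIdeal A).map (algebraMap A B)) ≃+* NN)
    (α : Ah) (hα : α ∈ (maximalIdeal A).map (algebraMap A Ah))
    (ψ : (PP ⧸ Ideal.span {(MvPowerSeries.X 0 * MvPowerSeries.X 1 - MvPowerSeries.C α : PP)}) →ₐ[A] Bh)
    (hψ : Function.Surjective ψ) : Function.Injective ψ := by
  let mB' := (maximalIdeal B).map (Ideal.Quotient.mk ((maximalIdeal A).map (algebraMap A B)))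
  let Q := B ⧸ (maximalIdeal A).map (algebraMap A B)
  let C := AdicCompletion mB' Q
  let P := MvPowerSeries (Fin 2) (AdicCompletion (maximalIdeal A) A)
  let S := P ⧸ Ideal.span {(MvPowerSeries.X 0 * MvPowerSeries.X 1 - MvPowerSeries.C α : P)}
  haveI : IsNoetherianRing Ah := AdicRingLib.isNoetherianRing_adicCompletion _
  haveI : IsNoetherianRing P := CohenLib.isNoetherianRing_mvPowerSeries _
  haveI : IsNoetherianRing (MvPowerSeries (Fin 2) (ResidueField A)) := CohenLib.isNoetherianRing_mvPowerSeries _
  haveI : Nontrivial S := ψ.toRingHom.domain_nontrivial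
  haveI : IsLocalRing S := IsLocalRing.of_surjective' (Ideal.Quotient.mk _) Ideal.Quotient.mk_surjective
  haveI : Module.Flat B Bh := AdicCompletion.flat_of_isNoetherian (maximalIdeal B)
  haveI : Module.Flat A Bh := Module.Flat.trans A B Bh
  let J : Ideal C := mB'.map (algebraMap Q C)
  have hfg : mB'.FG := mB'.fg_of_isNoetherianRing
  haveI : IsAdicComplete J C := AdicCompletion.isAdicComplete_self _ hfg
  let pi : Bh →+* C := CompleteLib.completionLift (maximalIdeal B) J
    ((algebraMap Q C).comp (Ideal.Quotient.mk _)) (by rw [← Ideal.map_map])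
  have hpi : ∀ b, pi (algebraMap B Bh b) = algebraMap Q C (Ideal.Quotient.mk _ b) :=
    CompleteLib.completionLift_algebraMap _ _ _ _
  have hpis : Function.Surjective pi := CohenLib.surjective_of_complete J (maximalIdeal Bh) pi
    (by rw [AdicCompletion.maximalIdeal_eq_map, Ideal.map_map,
          show pi.comp (algebraMap B Bh) = (algebraMap Q C).comp (Ideal.Quotient.mk _) from RingHom.ext hpi,
          ← Ideal.map_map])
    fun r => by
      obtain ⟨q, hq⟩ := Ideal.Quotient.mk_surjective (AdicCompletion.evalOneₐ mB' r)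
      obtain ⟨b, rfl⟩ := Ideal.Quotient.mk_surjective q
      refine ⟨algebraMap B Bh b, ?_⟩
      show r - pi _ ∈ mB'.map (algebraMap Q C)
      rw [hpi, ← AdicCompletion.ker_evalOneₐ_eq_map mB' hfg]
      show AdicCompletion.evalOneₐ mB' _ = 0
      rw [map_sub, AlgHom.commutes, ← hq, Ideal.Quotient.algebraMap_eq, sub_self]
  let res : Ah →+* ResidueField A := (AdicCompletion.evalOneₐ (maximalIdeal A)).toRingHom
  have hres : ∀ x, res x = 0 ↔ x ∈ (maximalIdeal A).map (algebraMap A Ah) := fun x => by
    rw [← AdicCompletion.ker_evalOneₐ_eq_map _ (maximalIdeal A).fg_of_isNoetherianRing]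
    exact Iff.rfl
  have hress : Function.Surjective res := AdicCompletion.evalOneₐ_surjective _
  have hmaps : Function.Surjective (MvPowerSeries.map (σ := Fin 2) res) := fun F => by
    choose G hG using fun d => hress (MvPowerSeries.coeff d F)
    exact ⟨(fun d => G d : P), MvPowerSeries.ext fun d => by rw [MvPowerSeries.coeff_map]; exact hG d⟩
  let s₀ : P →+* NN := (Ideal.Quotient.mk _).comp (MvPowerSeries.map res)
  let s : S →+* NN := Ideal.Quotient.lift _ s₀ fun x hx => by
    obtain ⟨t, rfl⟩ := Ideal.mem_span_singleton.1 hx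
    rw [map_mul, show s₀ (MvPowerSeries.X 0 * MvPowerSeries.X 1 - MvPowerSeries.C α) = 0 from
      Ideal.Quotient.eq_zero_iff_mem.2 (by
        rw [map_sub, map_mul, MvPowerSeries.map_X, MvPowerSeries.map_X, MvPowerSeries.map_C, (hres α).2 hα,
          map_zero, sub_zero]
        exact Ideal.mem_span_singleton_self _), zero_mul]
  have hs : Function.Surjective s := fun y => by
    obtain ⟨F, rfl⟩ := Ideal.Quotient.mk_surjective y
    obtain ⟨G, rfl⟩ := hmaps F
    exact ⟨Ideal.Quotient.mk _ G, rfl⟩
  let MS : Ideal S := (maximalIdeal A).map (algebraMap A S)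
  have hker : RingHom.ker s ≤ MS := by
    intro x hx
    obtain ⟨f, rfl⟩ := Ideal.Quotient.mk_surjective x
    have hx' : Ideal.Quotient.mk _ (MvPowerSeries.map res f) = (0 : NN) := hx
    obtain ⟨g, hg⟩ := Ideal.mem_span_singleton.1 (Ideal.Quotient.eq_zero_iff_mem.1 hx')
    obtain ⟨G, rfl⟩ := hmaps g
    let E : P := MvPowerSeries.X 0 * MvPowerSeries.X 1 - MvPowerSeries.C α
    have h1 : f - E * G ∈ ((maximalIdeal A).map (algebraMap A Ah)).map (MvPowerSeries.C (σ := Fin 2)) := by
      refine mem_map_C_of_coeff_mem (IsNoetherian.noetherian _) _ fun d => ?_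
      rw [← hres, ← MvPowerSeries.coeff_map]
      simp [E, hg, (hres α).2 hα]
    rw [Ideal.map_map] at h1
    have h2 := Ideal.mem_map_of_mem (Ideal.Quotient.mk (Ideal.span {E})) h1
    rw [Ideal.map_map, map_sub, map_mul, Ideal.Quotient.eq_zero_iff_mem.2 (Ideal.mem_span_singleton_self E),
      zero_mul, sub_zero] at h2
    have hA : (Ideal.Quotient.mk (Ideal.span {E})).comp ((MvPowerSeries.C (σ := Fin 2)).comp (algebraMap A Ah))
        = algebraMap A S := RingHom.ext fun a => by
      show _ = Ideal.Quotient.mk _ (algebraMap A P a)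
      rw [MvPowerSeries.algebraMap_apply]; rfl
    show _ ∈ Ideal.map (algebraMap A S) _
    rw [← hA]
    exact h2
  let r : S →+* NN := (e.toRingHom.comp pi).comp ψ.toRingHom
  have hrs : Function.Surjective r := (e.surjective.comp hpis).comp hψ
  have hrM : MS ≤ RingHom.ker r := Ideal.map_le_iff_le_comap.2 fun a ha => by
    show e (pi (ψ (algebraMap A S a))) = 0
    rw [AlgHom.commutes, IsScalarTower.algebraMap_apply A B Bh, hpi,
      Ideal.Quotient.eq_zero_iff_mem.2 (Ideal.mem_map_of_mem _ ha), map_zero, map_zero]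
  let E : NN →+* NN := RingHom.liftOfSurjective s hs ⟨r, hker.trans hrM⟩
  have hE : ∀ x, E (s x) = r x := fun x => RingHom.liftOfRightInverse_comp_apply _ _ _ _ x
  have hEi : Function.Injective E := CohenLib.injective_of_surjective_ringEndo E fun y => by
    obtain ⟨x, rfl⟩ := hrs y; exact ⟨s x, hE x⟩
  have hK : RingHom.ker ψ ≤ MS := fun x hx => hker <| hEi <| by
    rw [hE, map_zero]
    show e (pi (ψ x)) = 0
    rw [show ψ x = 0 from hx, map_zero, map_zero]
  have hMS : MS ≤ maximalIdeal S := Ideal.map_le_iff_le_comap.2 fun a ha h => by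
    have h1 := (ψ.toRingHom.isUnit_map h)
    refine map_nonunit (algebraMap A B) a ha ?_
    refine (isUnit_map_iff (algebraMap B Bh) _).1 ?_
    rw [← IsScalarTower.algebraMap_apply A B Bh, ← ψ.commutes]
    exact h1
  rw [show Function.Injective ψ ↔ RingHom.ker ψ = ⊥ from RingHom.injective_iff_ker_eq_bot _]
  exact Submodule.eq_bot_of_le_smul_of_le_jacobson_bot MS _ (IsNoetherian.noetherian _)
    (ker_le_map_mul_ker ψ hψ _ hK) (hMS.trans (maximalIdeal_le_jacobson _))

end NodeCplLib
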