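import Mathlib.RingTheory.LocalRing.ResidueField.Basic
import Mathlib.RingTheory.Ideal.Maps
import Mathlib.Tactic.LinearCombination

/-!
# Successive approximation of a node deformation
-/

set_option autoImplicit false

universe u

open IsLocalRing

namespace NodeCplLib

variable {A B : Type u} [CommRing A] [IsLocalRing A] [CommRing B] [IsLocalRing B] [Algebra A B]
  [IsLocalHom (algebraMap A B)]

/-- Splitting an element of `I B` into a constant, multiples of `u`, `v` and a higher order term. -/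
theorem exists_split (hres : Function.Bijective (ResidueField.map (algebraMap A B))) {u v : B}
    (hgen : maximalIdeal B = Ideal.span {u, v} ⊔ (maximalIdeal A).map (algebraMap A B))
    (I : Ideal A) {r : B} (hr : r ∈ I.map (algebraMap A B)) :
    ∃ c ∈ I, ∃ p ∈ I.map (algebraMap A B), ∃ q ∈ I.map (algebraMap A B),
      r - (algebraMap A B c + p * u + q * v) ∈ (I * maximalIdeal A).map (algebraMap A B) := by
  induction hr using Submodule.span_induction with
  | mem x hx =>
    obtain ⟨a, ha, rfl⟩ := hx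
    exact ⟨a, ha, 0, zero_mem _, 0, zero_mem _, by simp⟩
  | zero => exact ⟨0, zero_mem _, 0, zero_mem _, 0, zero_mem _, by simp⟩
  | add x y _ _ hx hy =>
    obtain ⟨c, hc, p, hp, q, hq, hw⟩ := hx
    obtain ⟨c', hc', p', hp', q', hq', hw'⟩ := hy
    refine ⟨c + c', add_mem hc hc', p + p', add_mem hp hp', q + q', add_mem hq hq', ?_⟩
    rw [map_add, show x + y - (algebraMap A B c + algebraMap A B c' + (p + p') * u + (q + q') * v) =
      (x - (algebraMap A B c + p * u + q * v)) + (y - (algebraMap A B c' + p' * u + q' * v)) by ring]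
    exact add_mem hw hw'
  | smul b x _ hx =>
    obtain ⟨c, hc, p, hp, q, hq, hw⟩ := hx
    obtain ⟨z, hz⟩ := hres.2 (residue B b)
    obtain ⟨e, rfl⟩ := residue_surjective z
    rw [ResidueField.map_residue] at hz
    have hb : b - algebraMap A B e ∈ maximalIdeal B := by
      rw [← residue_eq_zero_iff, map_sub, hz, sub_self]
    rw [hgen] at hb
    obtain ⟨y, hy, w, hw', hyw⟩ := Submodule.mem_sup.1 hb
    obtain ⟨s, t, rfl⟩ := Ideal.mem_span_pair.1 hy
    refine ⟨e * c, I.mul_mem_left _ hc, b * p + s * algebraMap A B c,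
      add_mem (Ideal.mul_mem_left _ _ hp) (Ideal.mul_mem_left _ _ (Ideal.mem_map_of_mem _ hc)),
      b * q + t * algebraMap A B c,
      add_mem (Ideal.mul_mem_left _ _ hq) (Ideal.mul_mem_left _ _ (Ideal.mem_map_of_mem _ hc)), ?_⟩
    rw [smul_eq_mul, map_mul, show b * x - (algebraMap A B e * algebraMap A B c + (b * p + s * algebraMap A B c) * u
      + (b * q + t * algebraMap A B c) * v) = b * (x - (algebraMap A B c + p * u + q * v)) +
      algebraMap A B c * w by linear_combination (-(algebraMap A B c)) * hyw]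
    refine add_mem (Ideal.mul_mem_left _ _ hw) ?_
    rw [Ideal.map_mul]
    exact Ideal.mul_mem_mul (Ideal.mem_map_of_mem _ hc) hw'

/-- The approximating sequences of a node. -/
theorem exists_node_seq (hres : Function.Bijective (ResidueField.map (algebraMap A B))) {u v : B}
    (hu : u ∈ maximalIdeal B) (hv : v ∈ maximalIdeal B)
    (huv : u * v ∈ (maximalIdeal A).map (algebraMap A B))
    (hgen : maximalIdeal B = Ideal.span {u, v} ⊔ (maximalIdeal A).map (algebraMap A B)) :
    ∃ (us vs : ℕ → B) (ε : ℕ → A), us 0 = u ∧ vs 0 = v ∧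
      ∀ n : ℕ, us n ∈ maximalIdeal B ∧ vs n ∈ maximalIdeal B ∧ ε n ∈ maximalIdeal A ∧
        us (n + 1) - us n ∈ (maximalIdeal A ^ (n + 1)).map (algebraMap A B) ∧
        vs (n + 1) - vs n ∈ (maximalIdeal A ^ (n + 1)).map (algebraMap A B) ∧
        ε (n + 1) - ε n ∈ maximalIdeal A ^ (n + 1) ∧
        us n * vs n - algebraMap A B (ε n) ∈ (maximalIdeal A ^ (n + 1)).map (algebraMap A B) := by
  let M : Ideal B := (maximalIdeal A).map (algebraMap A B)
  have hM : M ≤ maximalIdeal B := hgen ▸ le_sup_right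
  let P : ℕ → B × B × A → Prop := fun n s => s.1 - u ∈ M ∧ s.2.1 - v ∈ M ∧ s.2.2 ∈ maximalIdeal A ∧
    s.1 * s.2.1 - algebraMap A B s.2.2 ∈ (maximalIdeal A ^ (n + 1)).map (algebraMap A B)
  have hpow : ∀ n : ℕ, (maximalIdeal A ^ (n + 1)).map (algebraMap A B) ≤ M := fun n =>
    Ideal.map_mono (Ideal.pow_le_self n.succ_ne_zero)
  have step : ∀ n s, P n s → ∃ t, P (n + 1) t ∧
      t.1 - s.1 ∈ (maximalIdeal A ^ (n + 1)).map (algebraMap A B) ∧
      t.2.1 - s.2.1 ∈ (maximalIdeal A ^ (n + 1)).map (algebraMap A B) ∧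
      t.2.2 - s.2.2 ∈ maximalIdeal A ^ (n + 1) := by
    rintro n ⟨a, b, e⟩ ⟨ha, hb, he, hr⟩
    obtain ⟨c, hc, p, hp, q, hq, hw⟩ := exists_split hres hgen _ hr
    refine ⟨⟨a - q, b - p, e + c⟩, ⟨?_, ?_, add_mem he (Ideal.pow_le_self n.succ_ne_zero hc), ?_⟩,
      ?_, ?_, ?_⟩
    · show a - q - u ∈ M
      rw [sub_right_comm]
      exact sub_mem ha (hpow n hq)
    · show b - p - v ∈ M
      rw [sub_right_comm]
      exact sub_mem hb (hpow n hp)
    · show (a - q) * (b - p) - algebraMap A B (e + c) ∈ _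
      rw [pow_succ, map_add, show (a - q) * (b - p) - (algebraMap A B e + algebraMap A B c) =
        (a * b - algebraMap A B e - (algebraMap A B c + p * u + q * v)) + p * (u - a) + q * (v - b) + p * q by ring]
      have hM' : M = (maximalIdeal A).map (algebraMap A B) := rfl
      rw [Ideal.map_mul, ← hM'] at hw ⊢
      refine add_mem (add_mem (add_mem hw (Ideal.mul_mem_mul hp ?_)) (Ideal.mul_mem_mul hq ?_))
        (Ideal.mul_mem_mul hp (hpow n hq))
      · rw [← neg_sub]; exact neg_mem ha
      · rw [← neg_sub]; exact neg_mem hb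
    · show a - q - a ∈ _
      simpa using neg_mem hq
    · show b - p - b ∈ _
      simpa using neg_mem hp
    · show e + c - e ∈ _
      simpa using hc
  choose next hnext using step
  let seq : ∀ n, { s : B × B × A // P n s } := fun n => Nat.rec
    ⟨(u, v, 0), by simp, by simp, zero_mem _, by simpa using huv⟩
    (fun m s => ⟨next m s.1 s.2, (hnext m s.1 s.2).1⟩) n
  refine ⟨fun n => (seq n).1.1, fun n => (seq n).1.2.1, fun n => (seq n).1.2.2, rfl, rfl, fun n => ?_⟩
  obtain ⟨h1, h2, h3, h4⟩ := (seq n).2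
  obtain ⟨-, d1, d2, d3⟩ := hnext n (seq n).1 (seq n).2
  exact ⟨(Submodule.sub_mem_iff_left _ hu).1 (hM h1), (Submodule.sub_mem_iff_left _ hv).1 (hM h2), h3,
    d1, d2, d3, h4⟩

end NodeCplLib
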